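import Cfsg.Agent.Spor.Cert
import Cfsg.Agent.Spor.Ly3906.C0

set_option autoImplicit false
set_option maxRecDepth 100000000
set_option Elab.async false
set_option linter.unusedSectionVars false

namespace Cfsg.Agent.Spor.Ly3906

theorem hT : T.Ok 12 := T.ok_of 12 (show AllP (fun n => Net.okb 12 n = true) [n0, n1, n2, n3, n4, n5, n6, n7, n8] from AllP.cons ok0 (AllP.cons ok1 (AllP.cons ok2 (AllP.cons ok3 (AllP.cons ok4 (AllP.cons ok5 (AllP.cons ok6 (AllP.cons ok7 (AllP.cons ok8 (AllP.nil))))))))))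

noncomputable def fP : ℕ → Equiv.Perm ℕ := T.fP gs

theorem hsq : ∀ j < 0, j < 4 → T.fP gs j * T.fP gs j = 1 :=
  Tab.sq (show AllP (fun z => evA T.τ [z, z] = 1) [] from AllP.nil) 4 rfl

theorem hiv : IvOk (2 * 0) (atm 4 (T.fP gs)) := ivOk_atm hsq

theorem pz1 : PZ T (atm 4 (T.fP gs)) EX 1 := PZ.of_atom (y := 2 * 0) (by decide +kernel) (atm_two_mul _ (by decide))
theorem pz2 : PZ T (atm 4 (T.fP gs)) EX 2 := PZ.of_atom (y := 2 * 1) (by decide +kernel) (atm_two_mul _ (by decide))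
theorem pz3 : PZ T (atm 4 (T.fP gs)) EX 3 := PZ.of_atom (y := 2 * 2) (by decide +kernel) (atm_two_mul _ (by decide))
theorem pz4 : PZ T (atm 4 (T.fP gs)) EX 4 := PZ.of_atom (y := 2 * 3) (by decide +kernel) (atm_two_mul _ (by decide))
theorem pz5 : PZ T (atm 4 (T.fP gs)) EX 5 := PZ.of_inv hiv pz1 (by decide +kernel)
theorem pz6 : PZ T (atm 4 (T.fP gs)) EX 6 := PZ.of_inv hiv pz2 (by decide +kernel)
theorem pz7 : PZ T (atm 4 (T.fP gs)) EX 7 := PZ.of_inv hiv pz3 (by decide +kernel)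
theorem pz8 : PZ T (atm 4 (T.fP gs)) EX 8 := PZ.of_inv hiv pz4 (by decide +kernel)
theorem pz9 : PZ T (atm 4 (T.fP gs)) EX 9 := PZ.of_def hiv (d := [1, 7, 5]) (AllP.cons pz1 (AllP.cons pz7 (AllP.cons pz5 (AllP.nil)))) (hT.one rel0) (by decide +kernel)
theorem pz10 : PZ T (atm 4 (T.fP gs)) EX 10 := PZ.of_inv hiv pz9 (by decide +kernel)
theorem pz11 : PZ T (atm 4 (T.fP gs)) EX 11 := PZ.of_def hiv (d := [2, 7, 6]) (AllP.cons pz2 (AllP.cons pz7 (AllP.cons pz6 (AllP.nil)))) (hT.one rel1) (by decide +kernel)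
theorem pz12 : PZ T (atm 4 (T.fP gs)) EX 12 := PZ.of_inv hiv pz11 (by decide +kernel)
theorem pz13 : PZ T (atm 4 (T.fP gs)) EX 13 := PZ.of_def hiv (d := [6, 7, 2]) (AllP.cons pz6 (AllP.cons pz7 (AllP.cons pz2 (AllP.nil)))) (hT.one rel2) (by decide +kernel)
theorem pz14 : PZ T (atm 4 (T.fP gs)) EX 14 := PZ.of_inv hiv pz13 (by decide +kernel)
theorem pz15 : PZ T (atm 4 (T.fP gs)) EX 15 := PZ.of_def hiv (d := [3, 9, 7, 10]) (AllP.cons pz3 (AllP.cons pz9 (AllP.cons pz7 (AllP.cons pz10 (AllP.nil))))) (hT.one rel3) (by decide +kernel)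
theorem pz16 : PZ T (atm 4 (T.fP gs)) EX 16 := PZ.of_inv hiv pz15 (by decide +kernel)
theorem pz17 : PZ T (atm 4 (T.fP gs)) EX 17 := PZ.of_def hiv (d := [2, 2, 1, 3, 5, 7, 1, 7, 5, 8, 7, 6, 5, 2, 8, 7, 8]) (AllP.cons pz2 (AllP.cons pz2 (AllP.cons pz1 (AllP.cons pz3 (AllP.cons pz5 (AllP.cons pz7 (AllP.cons pz1 (AllP.cons pz7 (AllP.cons pz5 (AllP.cons pz8 (AllP.cons pz7 (AllP.cons pz6 (AllP.cons pz5 (AllP.cons pz2 (AllP.cons pz8 (AllP.cons pz7 (AllP.cons pz8 (AllP.nil)))))))))))))))))) (hT.one rel4) (by decide +kernel)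
theorem pz18 : PZ T (atm 4 (T.fP gs)) EX 18 := PZ.of_inv hiv pz17 (by decide +kernel)
theorem hPZ : AllP (PZ T (atm 4 (T.fP gs)) EX) L :=
  show AllP (PZ T (atm 4 (T.fP gs)) EX) [1, 2, 3, 4, 5, 6, 7, 8, 9, 10, 11, 12, 13, 14, 15, 16, 17, 18] from AllP.cons pz1 (AllP.cons pz2 (AllP.cons pz3 (AllP.cons pz4 (AllP.cons pz5 (AllP.cons pz6 (AllP.cons pz7 (AllP.cons pz8 (AllP.cons pz9 (AllP.cons pz10 (AllP.cons pz11 (AllP.cons pz12 (AllP.cons pz13 (AllP.cons pz14 (AllP.cons pz15 (AllP.cons pz16 (AllP.cons pz17 (AllP.cons pz18 (AllP.nil))))))))))))))))))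

theorem hrel : ∀ l ∈ RL, ev (atm 4 (T.fP gs)) l = 1 :=
  relAll_sound hiv (W := [[1, 1, 1, 1, 1, 1, 1, 1], [2, 2, 2, 2, 2], [2, 1, 2, 1, 2, 1, 2, 1], [2, 1, 1, 6, 5, 5], [2, 1, 6, 5, 2, 1, 6, 5, 2, 1, 6, 5], [3, 3, 3, 3, 3], [15, 15, 15, 15, 15], [15, 3, 16, 7], [15, 9, 16, 10], [15, 11, 16, 12], [15, 13, 16, 14], [15, 15, 11, 3, 12, 7], [16, 16, 13, 3, 14, 7], [15, 11, 9, 12, 10], [13, 9, 14, 10], [15, 13, 11, 14, 12], [3, 3, 1, 9, 5], [11, 11, 7, 14, 1, 11, 5], [7, 9, 11, 14, 7, 14, 1, 13, 5], [16, 16, 1, 15, 5], [10, 12, 13, 3, 13, 2, 9, 6], [7, 7, 14, 11, 11, 2, 11, 6], [16, 2, 15, 6], [17, 17], [6, 12, 6, 3, 17, 3, 18], [6, 6, 5, 10, 3, 13, 1, 17, 11, 18], [6, 6, 11, 14, 17, 13, 18], [7, 11, 7, 13, 17, 15, 18], [5, 6, 6, 5, 2, 5, 7, 16, 13, 17, 1, 1, 17], [7, 11, 13, 13, 17, 2, 18], [5, 5, 7, 16, 13, 17, 1, 6, 1, 2, 2, 1, 17], [1, 1, 1, 11, 1, 14, 9, 17, 10, 17, 9, 17], [5,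 6, 6, 1, 2, 3, 13, 15, 5, 18, 5, 18, 5, 9, 6, 18, 4], [5, 5, 5, 5, 4, 4], [4, 2, 8, 6], [5, 5, 5, 4, 1, 8], [15, 4, 15, 4, 15, 4, 15, 4, 15, 4], [5, 5, 15, 4, 16, 4, 15, 4]]) (rules := [⟨[1, 1, 1, 1, 1, 1, 1, 1], [], 0, true⟩, ⟨[2, 2, 2, 2, 2], [], 1, true⟩, ⟨[2, 1, 2, 1, 2, 1, 2, 1], [], 2, true⟩, ⟨[2, 1, 1, 6, 5, 5], [], 3, true⟩, ⟨[2, 1, 6, 5, 2, 1, 6, 5, 2, 1, 6, 5], [], 4, true⟩, ⟨[3, 3, 3, 3, 3], [], 5, true⟩, ⟨[15, 15, 15, 15, 15], [], 6, true⟩, ⟨[15, 3, 16, 7], [], 7, true⟩, ⟨[15, 9, 16, 10], [], 8, true⟩, ⟨[15, 11, 16, 12], [], 9, true⟩, ⟨[15, 13, 16, 14], [], 10, true⟩, ⟨[15, 15, 11, 3, 12, 7], [], 11, true⟩, ⟨[16, 16, 13, 3, 14, 7], [], 12, true⟩, ⟨[15, 11, 9, 12, 10], [], 13, true⟩, ⟨[13, 9, 14, 10], [], 14, true⟩, ⟨[15, 13, 11, 14, 12], [], 15, true⟩, ⟨[3, 3, 1, 9, 5], [], 16, true⟩, ⟨[11, 11, 7, 14, 1, 11, 5], [], 17, true⟩, ⟨[7, 9, 11, 14, 7, 14, 1, 13, 5], [], 18,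 true⟩, ⟨[16, 16, 1, 15, 5], [], 19, true⟩, ⟨[10, 12, 13, 3, 13, 2, 9, 6], [], 20, true⟩, ⟨[7, 7, 14, 11, 11, 2, 11, 6], [], 21, true⟩, ⟨[16, 2, 15, 6], [], 22, true⟩, ⟨[17, 17], [], 23, true⟩, ⟨[6, 12, 6, 3, 17, 3, 18], [], 24, true⟩, ⟨[6, 6, 5, 10, 3, 13, 1, 17, 11, 18], [], 25, true⟩, ⟨[6, 6, 11, 14, 17, 13, 18], [], 26, true⟩, ⟨[7, 11, 7, 13, 17, 15, 18], [], 27, true⟩, ⟨[5, 6, 6, 5, 2, 5, 7, 16, 13, 17, 1, 1, 17], [], 28, true⟩, ⟨[7, 11, 13, 13, 17, 2, 18], [], 29, true⟩, ⟨[5, 5, 7, 16, 13, 17, 1, 6, 1, 2, 2, 1, 17], [], 30, true⟩, ⟨[1, 1, 1, 11, 1, 14, 9, 17, 10, 17, 9, 17], [], 31, true⟩, ⟨[5, 6, 6, 1, 2, 3, 13, 15, 5, 18, 5, 18, 5, 9, 6, 18, 4], [], 32, true⟩, ⟨[5, 5, 5, 5, 4, 4], [], 33, true⟩, ⟨[4, 2, 8, 6], [], 34, true⟩, ⟨[5, 5, 5, 4, 1, 8], [], 35, true⟩, ⟨[15, 4, 15, 4, 15, 4, 15, 4, 15, 4], [], 36, true⟩, ⟨[5, 5, 15, 4, 16, 4, 15, 4], [], 37, true⟩]) hPZ (AllP.cons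 (hT.one rel5) (AllP.cons (hT.one rel6) (AllP.cons (hT.one rel7) (AllP.cons (hT.one rel8) (AllP.cons (hT.one rel9) (AllP.cons (hT.one rel10) (AllP.cons (hT.one rel11) (AllP.cons (hT.one rel12) (AllP.cons (hT.one rel13) (AllP.cons (hT.one rel14) (AllP.cons (hT.one rel15) (AllP.cons (hT.one rel16) (AllP.cons (hT.one rel17) (AllP.cons (hT.one rel18) (AllP.cons (hT.one rel19) (AllP.cons (hT.one rel20) (AllP.cons (hT.one rel21) (AllP.cons (hT.one rel22) (AllP.cons (hT.one rel23) (AllP.cons (hT.one rel24) (AllP.cons (hT.one rel25) (AllP.cons (hT.one rel26) (AllP.cons (hT.one rel27) (AllP.cons (hT.one rel28) (AllP.cons (hT.one rel29) (AllP.cons (hT.one rel30) (AllP.cons (hT.one rel31) (AllP.cons (hT.one rel32) (AllP.cons (hT.one rel33) (AllP.cons (hT.one rel34) (AllP.cons (hT.one rel35) (AllP.cons (hT.one rel36) (AllP.cons (hT.one rel37) (AllP.cons (hT.one rel38) (AllP.cons (hT.one rel39)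 (AllP.cons (hT.one rel40) (AllP.cons (hT.one rel41) (AllP.cons (hT.one rel42) (AllP.nil))))))))))))))))))))))))))))))))))))))) (by decide +kernel)

theorem hst : StepsOk F IV RT base 2560 7652 := (StepsOk.trans (steps_sound' st0) (steps_sound' st1))

section
variable {G : Type} [Group G] {a : ℕ → G} (hi : IvOk (2 * 0) a) (hR : ∀ r ∈ RL, ev a r = 1)
  {H : Subgroup G} (hb : ∀ z ∈ base, letV a EX z ∈ H)
include hi hR hb

theorem let1 : LetOk H (letV a EX) T L 1 :=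
  LetOk.of hT tl1 cov1 (AllP.cons (Just.rot hT hi hR rot1_1 rot1_1r) (AllP.cons (Just.rot hT hi hR rot1_2 rot1_2r) (AllP.cons (Just.rot hT hi hR rot1_3 rot1_3r) (AllP.cons (Just.rot hT hi hR rot1_4 rot1_4r) (AllP.cons (Just.rot hT hi hR rot1_5 rot1_5r) (AllP.cons (Just.rot hT hi hR rot1_6 rot1_6r) (AllP.cons (Just.rot hT hi hR rot1_7 rot1_7r) (AllP.cons (Just.rot hT hi hR rot1_8 rot1_8r) (AllP.cons (Just.rot hT hi hR rot1_9 rot1_9r) (AllP.cons (Just.rot hT hi hR rot1_10 rot1_10r) (AllP.cons (Just.rot hT hi hR rot1_11 rot1_11r) (AllP.cons (Just.rot hT hi hR rot1_12 rot1_12r) (AllP.cons (Just.rot hT hi hR rot1_13 rot1_13r) (AllP.cons (Just.rot hT hi hR rot1_14 rot1_14r) (AllP.cons (Just.rot hT hi hR rot1_15 rot1_15r) (AllP.cons (Just.rot hT hi hR rot1_16 rot1_16r) (AllP.cons (Just.rot hT hi hR rot1_17 rot1_17r) (AllP.cons (Just.rot hT hi hR rot1_18 rot1_18r) (AllP.cons (Just.rot hT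 hi hR rot1_19 rot1_19r) (AllP.cons (Just.rot hT hi hR rot1_20 rot1_20r) (AllP.cons (Just.rot hT hi hR rot1_21 rot1_21r) (AllP.cons (Just.rot hT hi hR rot1_22 rot1_22r) (AllP.cons (Just.rot hT hi hR rot1_23 rot1_23r) (AllP.cons (Just.rot hT hi hR rot1_24 rot1_24r) (AllP.cons (Just.rot hT hi hR rot1_25 rot1_25r) (AllP.cons (Just.rot hT hi hR rot1_26 rot1_26r) (AllP.cons (Just.rot hT hi hR rot1_27 rot1_27r) (AllP.cons (Just.rot hT hi hR rot1_28 rot1_28r) (AllP.cons (Just.rot hT hi hR rot1_29 rot1_29r) (AllP.cons (Just.rot hT hi hR rot1_30 rot1_30r) (AllP.cons (Just.rot hT hi hR rot1_31 rot1_31r) (AllP.cons (Just.rot hT hi hR rot1_32 rot1_32r) (AllP.cons (Just.rot hT hi hR rot1_33 rot1_33r) (AllP.cons (Just.rot hT hi hR rot1_34 rot1_34r) (AllP.cons (Just.rot hT hi hR rot1_35 rot1_35r) (AllP.cons (Just.rot hT hi hR rot1_36 rot1_36r) (AllP.cons (Just.rot hT hi hR rot1_37 rot1_37r) (AllP.cons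 (Just.rot hT hi hR rot1_38 rot1_38r) (AllP.cons (Just.rot hT hi hR rot1_39 rot1_39r) (AllP.cons (Just.rot hT hi hR rot1_40 rot1_40r) (AllP.cons (Just.rot hT hi hR rot1_41 rot1_41r) (AllP.cons (Just.rot hT hi hR rot1_42 rot1_42r) (AllP.cons (Just.rot hT hi hR rot1_43 rot1_43r) (AllP.cons (Just.rot hT hi hR rot1_44 rot1_44r) (AllP.cons (Just.rot hT hi hR rot1_45 rot1_45r) (AllP.cons (Just.rot hT hi hR rot1_46 rot1_46r) (AllP.cons (Just.rot hT hi hR rot1_47 rot1_47r) (AllP.cons (Just.rot hT hi hR rot1_48 rot1_48r) (AllP.cons (Just.rot hT hi hR rot1_49 rot1_49r) (AllP.cons (Just.rot hT hi hR rot1_50 rot1_50r) (AllP.cons (Just.rot hT hi hR rot1_51 rot1_51r) (AllP.cons (Just.rot hT hi hR rot1_52 rot1_52r) (AllP.cons (Just.rot hT hi hR rot1_53 rot1_53r) (AllP.cons (Just.rot hT hi hR rot1_54 rot1_54r) (AllP.cons (Just.rot hT hi hR rot1_55 rot1_55r) (AllP.cons (Just.base (hb 1 (by decide)))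 (AllP.cons (Just.epi hT hi ep2a ep2b (seq_mem hi hR rfl hivk hrt H hb hdefs hst ep2c) ep2d) (AllP.nil))))))))))))))))))))))))))))))))))))))))))))))))))))))))))
theorem let2 : LetOk H (letV a EX) T L 2 :=
  LetOk.of hT tl2 cov2 (AllP.cons (Just.rot hT hi hR rot2_1 rot2_1r) (AllP.cons (Just.rot hT hi hR rot2_2 rot2_2r) (AllP.cons (Just.rot hT hi hR rot2_3 rot2_3r) (AllP.cons (Just.rot hT hi hR rot2_4 rot2_4r) (AllP.cons (Just.rot hT hi hR rot2_5 rot2_5r) (AllP.cons (Just.rot hT hi hR rot2_6 rot2_6r) (AllP.cons (Just.rot hT hi hR rot2_7 rot2_7r) (AllP.cons (Just.rot hT hi hR rot2_8 rot2_8r) (AllP.cons (Just.rot hT hi hR rot2_9 rot2_9r) (AllP.cons (Just.rot hT hi hR rot2_10 rot2_10r) (AllP.cons (Just.rot hT hi hR rot2_11 rot2_11r) (AllP.cons (Just.rot hT hi hR rot2_12 rot2_12r) (AllP.cons (Just.rot hT hi hR rot2_13 rot2_13r) (AllP.cons (Just.rot hT hi hR rot2_14 rot2_14r) (AllP.cons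 (Just.rot hT hi hR rot2_15 rot2_15r) (AllP.cons (Just.rot hT hi hR rot2_16 rot2_16r) (AllP.cons (Just.rot hT hi hR rot2_17 rot2_17r) (AllP.cons (Just.rot hT hi hR rot2_18 rot2_18r) (AllP.cons (Just.rot hT hi hR rot2_19 rot2_19r) (AllP.cons (Just.rot hT hi hR rot2_20 rot2_20r) (AllP.cons (Just.rot hT hi hR rot2_21 rot2_21r) (AllP.cons (Just.rot hT hi hR rot2_22 rot2_22r) (AllP.cons (Just.rot hT hi hR rot2_23 rot2_23r) (AllP.cons (Just.rot hT hi hR rot2_24 rot2_24r) (AllP.cons (Just.rot hT hi hR rot2_25 rot2_25r) (AllP.cons (Just.rot hT hi hR rot2_26 rot2_26r) (AllP.cons (Just.rot hT hi hR rot2_27 rot2_27r) (AllP.cons (Just.rot hT hi hR rot2_28 rot2_28r) (AllP.cons (Just.rot hT hi hR rot2_29 rot2_29r) (AllP.cons (Just.rot hT hi hR rot2_30 rot2_30r) (AllP.cons (Just.rot hT hi hR rot2_31 rot2_31r) (AllP.cons (Just.rot hT hi hR rot2_32 rot2_32r) (AllP.cons (Just.rot hT hi hR rot2_33 rot2_33r)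 (AllP.cons (Just.rot hT hi hR rot2_34 rot2_34r) (AllP.cons (Just.rot hT hi hR rot2_35 rot2_35r) (AllP.cons (Just.rot hT hi hR rot2_36 rot2_36r) (AllP.cons (Just.rot hT hi hR rot2_37 rot2_37r) (AllP.cons (Just.rot hT hi hR rot2_38 rot2_38r) (AllP.cons (Just.rot hT hi hR rot2_39 rot2_39r) (AllP.cons (Just.rot hT hi hR rot2_40 rot2_40r) (AllP.cons (Just.base (hb 2 (by decide))) (AllP.nil))))))))))))))))))))))))))))))))))))))))))
theorem let3 : LetOk H (letV a EX) T L 3 :=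
  LetOk.of hT tl3 cov3 (AllP.cons (Just.rot hT hi hR rot3_1 rot3_1r) (AllP.cons (Just.rot hT hi hR rot3_2 rot3_2r) (AllP.cons (Just.rot hT hi hR rot3_3 rot3_3r) (AllP.cons (Just.rot hT hi hR rot3_4 rot3_4r) (AllP.cons (Just.rot hT hi hR rot3_5 rot3_5r) (AllP.cons (Just.rot hT hi hR rot3_6 rot3_6r) (AllP.cons (Just.rot hT hi hR rot3_7 rot3_7r) (AllP.cons (Just.rot hT hi hR rot3_8 rot3_8r) (AllP.cons (Just.rot hT hi hR rot3_9 rot3_9r) (AllP.cons (Just.rot hT hi hR rot3_10 rot3_10r) (AllP.cons (Just.rot hT hi hR rot3_11 rot3_11r) (AllP.cons (Just.rot hT hi hR rot3_12 rot3_12r) (AllP.cons (Just.rot hT hi hR rot3_13 rot3_13r) (AllP.cons (Just.rot hT hi hR rot3_14 rot3_14r) (AllP.cons (Just.rot hT hi hR rot3_15 rot3_15r) (AllP.cons (Just.rot hT hi hR rot3_16 rot3_16r) (AllP.cons (Just.rot hT hi hR rot3_17 rot3_17r) (AllP.cons (Just.rot hT hi hR rot3_18 rot3_18r) (AllP.cons (Just.rot hT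 hi hR rot3_19 rot3_19r) (AllP.cons (Just.rot hT hi hR rot3_20 rot3_20r) (AllP.cons (Just.rot hT hi hR rot3_21 rot3_21r) (AllP.cons (Just.rot hT hi hR rot3_22 rot3_22r) (AllP.cons (Just.rot hT hi hR rot3_23 rot3_23r) (AllP.cons (Just.rot hT hi hR rot3_24 rot3_24r) (AllP.cons (Just.rot hT hi hR rot3_25 rot3_25r) (AllP.cons (Just.rot hT hi hR rot3_26 rot3_26r) (AllP.cons (Just.rot hT hi hR rot3_27 rot3_27r) (AllP.cons (Just.rot hT hi hR rot3_28 rot3_28r) (AllP.cons (Just.rot hT hi hR rot3_29 rot3_29r) (AllP.cons (Just.rot hT hi hR rot3_30 rot3_30r) (AllP.cons (Just.rot hT hi hR rot3_31 rot3_31r) (AllP.cons (Just.rot hT hi hR rot3_32 rot3_32r) (AllP.cons (Just.rot hT hi hR rot3_33 rot3_33r) (AllP.cons (Just.rot hT hi hR rot3_34 rot3_34r) (AllP.cons (Just.rot hT hi hR rot3_35 rot3_35r) (AllP.cons (Just.base (hb 3 (by decide))) (AllP.nil)))))))))))))))))))))))))))))))))))))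
theorem let4 : LetOk H (letV a EX) T L 4 :=
  LetOk.of hT tl4 cov4 (AllP.cons (Just.rot hT hi hR rot4_1 rot4_1r) (AllP.cons (Just.rot hT hi hR rot4_2 rot4_2r) (AllP.cons (Just.rot hT hi hR rot4_3 rot4_3r) (AllP.cons (Just.rot hT hi hR rot4_4 rot4_4r) (AllP.cons (Just.rot hT hi hR rot4_5 rot4_5r) (AllP.cons (Just.rot hT hi hR rot4_6 rot4_6r) (AllP.cons (Just.rot hT hi hR rot4_7 rot4_7r) (AllP.cons (Just.rot hT hi hR rot4_8 rot4_8r) (AllP.cons (Just.rot hT hi hR rot4_9 rot4_9r) (AllP.cons (Just.rot hT hi hR rot4_10 rot4_10r) (AllP.cons (Just.rot hT hi hR rot4_11 rot4_11r) (AllP.cons (Just.rot hT hi hR rot4_12 rot4_12r) (AllP.cons (Just.rot hT hi hR rot4_13 rot4_13r) (AllP.cons (Just.rot hT hi hR rot4_14 rot4_14r) (AllP.cons (Just.rot hT hi hR rot4_15 rot4_15r) (AllP.nil))))))))))))))))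
theorem let5 : LetOk H (letV a EX) T L 5 :=
  LetOk.of hT tl5 cov5 (AllP.cons (Just.rot hT hi hR rot5_1 rot5_1r) (AllP.cons (Just.rot hT hi hR rot5_2 rot5_2r) (AllP.cons (Just.rot hT hi hR rot5_3 rot5_3r) (AllP.cons (Just.rot hT hi hR rot5_4 rot5_4r) (AllP.cons (Just.rot hT hi hR rot5_5 rot5_5r) (AllP.cons (Just.rot hT hi hR rot5_6 rot5_6r) (AllP.cons (Just.rot hT hi hR rot5_7 rot5_7r) (AllP.cons (Just.rot hT hi hR rot5_8 rot5_8r) (AllP.cons (Just.rot hT hi hR rot5_9 rot5_9r) (AllP.cons (Just.rot hT hi hR rot5_10 rot5_10r) (AllP.cons (Just.rot hT hi hR rot5_11 rot5_11r) (AllP.cons (Just.rot hT hi hR rot5_12 rot5_12r) (AllP.cons (Just.rot hT hi hR rot5_13 rot5_13r) (AllP.cons (Just.rot hT hi hR rot5_14 rot5_14r) (AllP.cons (Just.rot hT hi hR rot5_15 rot5_15r) (AllP.cons (Just.rot hT hi hR rot5_16 rot5_16r) (AllP.cons (Just.rot hT hi hR rot5_17 rot5_17r) (AllP.cons (Just.rot hT hi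 hR rot5_18 rot5_18r) (AllP.cons (Just.rot hT hi hR rot5_19 rot5_19r) (AllP.cons (Just.rot hT hi hR rot5_20 rot5_20r) (AllP.cons (Just.rot hT hi hR rot5_21 rot5_21r) (AllP.cons (Just.rot hT hi hR rot5_22 rot5_22r) (AllP.cons (Just.rot hT hi hR rot5_23 rot5_23r) (AllP.cons (Just.rot hT hi hR rot5_24 rot5_24r) (AllP.cons (Just.rot hT hi hR rot5_25 rot5_25r) (AllP.cons (Just.rot hT hi hR rot5_26 rot5_26r) (AllP.cons (Just.rot hT hi hR rot5_27 rot5_27r) (AllP.cons (Just.rot hT hi hR rot5_28 rot5_28r) (AllP.cons (Just.rot hT hi hR rot5_29 rot5_29r) (AllP.cons (Just.rot hT hi hR rot5_30 rot5_30r) (AllP.cons (Just.rot hT hi hR rot5_31 rot5_31r) (AllP.cons (Just.rot hT hi hR rot5_32 rot5_32r) (AllP.cons (Just.rot hT hi hR rot5_33 rot5_33r) (AllP.cons (Just.rot hT hi hR rot5_34 rot5_34r) (AllP.cons (Just.rot hT hi hR rot5_35 rot5_35r) (AllP.cons (Just.rot hT hi hR rot5_36 rot5_36r) (AllP.cons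 (Just.rot hT hi hR rot5_37 rot5_37r) (AllP.cons (Just.rot hT hi hR rot5_38 rot5_38r) (AllP.cons (Just.rot hT hi hR rot5_39 rot5_39r) (AllP.cons (Just.rot hT hi hR rot5_40 rot5_40r) (AllP.cons (Just.rot hT hi hR rot5_41 rot5_41r) (AllP.cons (Just.rot hT hi hR rot5_42 rot5_42r) (AllP.cons (Just.rot hT hi hR rot5_43 rot5_43r) (AllP.cons (Just.rot hT hi hR rot5_44 rot5_44r) (AllP.cons (Just.rot hT hi hR rot5_45 rot5_45r) (AllP.cons (Just.rot hT hi hR rot5_46 rot5_46r) (AllP.cons (Just.rot hT hi hR rot5_47 rot5_47r) (AllP.cons (Just.rot hT hi hR rot5_48 rot5_48r) (AllP.cons (Just.rot hT hi hR rot5_49 rot5_49r) (AllP.cons (Just.rot hT hi hR rot5_50 rot5_50r) (AllP.cons (Just.rot hT hi hR rot5_51 rot5_51r) (AllP.cons (Just.rot hT hi hR rot5_52 rot5_52r) (AllP.cons (Just.rot hT hi hR rot5_53 rot5_53r) (AllP.cons (Just.rot hT hi hR rot5_54 rot5_54r) (AllP.cons (Just.rot hT hi hR rot5_55 rot5_55r)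 (AllP.cons (Just.epi hT hi ep1a ep1b (seq_mem hi hR rfl hivk hrt H hb hdefs hst ep1c) ep1d) (AllP.nil)))))))))))))))))))))))))))))))))))))))))))))))))))))))))
theorem let6 : LetOk H (letV a EX) T L 6 :=
  LetOk.of hT tl6 cov6 (AllP.cons (Just.rot hT hi hR rot6_1 rot6_1r) (AllP.cons (Just.rot hT hi hR rot6_2 rot6_2r) (AllP.cons (Just.rot hT hi hR rot6_3 rot6_3r) (AllP.cons (Just.rot hT hi hR rot6_4 rot6_4r) (AllP.cons (Just.rot hT hi hR rot6_5 rot6_5r) (AllP.cons (Just.rot hT hi hR rot6_6 rot6_6r) (AllP.cons (Just.rot hT hi hR rot6_7 rot6_7r) (AllP.cons (Just.rot hT hi hR rot6_8 rot6_8r) (AllP.cons (Just.rot hT hi hR rot6_9 rot6_9r) (AllP.cons (Just.rot hT hi hR rot6_10 rot6_10r) (AllP.cons (Just.rot hT hi hR rot6_11 rot6_11r) (AllP.cons (Just.rot hT hi hR rot6_12 rot6_12r) (AllP.cons (Just.rot hT hi hR rot6_13 rot6_13r) (AllP.cons (Just.rot hT hi hR rot6_14 rot6_14r) (AllP.cons (Just.rot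 hT hi hR rot6_15 rot6_15r) (AllP.cons (Just.rot hT hi hR rot6_16 rot6_16r) (AllP.cons (Just.rot hT hi hR rot6_17 rot6_17r) (AllP.cons (Just.rot hT hi hR rot6_18 rot6_18r) (AllP.cons (Just.rot hT hi hR rot6_19 rot6_19r) (AllP.cons (Just.rot hT hi hR rot6_20 rot6_20r) (AllP.cons (Just.rot hT hi hR rot6_21 rot6_21r) (AllP.cons (Just.rot hT hi hR rot6_22 rot6_22r) (AllP.cons (Just.rot hT hi hR rot6_23 rot6_23r) (AllP.cons (Just.rot hT hi hR rot6_24 rot6_24r) (AllP.cons (Just.rot hT hi hR rot6_25 rot6_25r) (AllP.cons (Just.rot hT hi hR rot6_26 rot6_26r) (AllP.cons (Just.rot hT hi hR rot6_27 rot6_27r) (AllP.cons (Just.rot hT hi hR rot6_28 rot6_28r) (AllP.cons (Just.rot hT hi hR rot6_29 rot6_29r) (AllP.cons (Just.rot hT hi hR rot6_30 rot6_30r) (AllP.cons (Just.rot hT hi hR rot6_31 rot6_31r) (AllP.cons (Just.rot hT hi hR rot6_32 rot6_32r) (AllP.cons (Just.rot hT hi hR rot6_33 rot6_33r) (AllP.cons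 (Just.rot hT hi hR rot6_34 rot6_34r) (AllP.cons (Just.rot hT hi hR rot6_35 rot6_35r) (AllP.cons (Just.rot hT hi hR rot6_36 rot6_36r) (AllP.cons (Just.rot hT hi hR rot6_37 rot6_37r) (AllP.cons (Just.rot hT hi hR rot6_38 rot6_38r) (AllP.cons (Just.rot hT hi hR rot6_39 rot6_39r) (AllP.cons (Just.rot hT hi hR rot6_40 rot6_40r) (AllP.nil)))))))))))))))))))))))))))))))))))))))))
theorem let7 : LetOk H (letV a EX) T L 7 :=
  LetOk.of hT tl7 cov7 (AllP.cons (Just.rot hT hi hR rot7_1 rot7_1r) (AllP.cons (Just.rot hT hi hR rot7_2 rot7_2r) (AllP.cons (Just.rot hT hi hR rot7_3 rot7_3r) (AllP.cons (Just.rot hT hi hR rot7_4 rot7_4r) (AllP.cons (Just.rot hT hi hR rot7_5 rot7_5r) (AllP.cons (Just.rot hT hi hR rot7_6 rot7_6r) (AllP.cons (Just.rot hT hi hR rot7_7 rot7_7r) (AllP.cons (Just.rot hT hi hR rot7_8 rot7_8r) (AllP.cons (Just.rot hT hi hR rot7_9 rot7_9r) (AllP.cons (Just.rot hT hi hR rot7_10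 rot7_10r) (AllP.cons (Just.rot hT hi hR rot7_11 rot7_11r) (AllP.cons (Just.rot hT hi hR rot7_12 rot7_12r) (AllP.cons (Just.rot hT hi hR rot7_13 rot7_13r) (AllP.cons (Just.rot hT hi hR rot7_14 rot7_14r) (AllP.cons (Just.rot hT hi hR rot7_15 rot7_15r) (AllP.cons (Just.rot hT hi hR rot7_16 rot7_16r) (AllP.cons (Just.rot hT hi hR rot7_17 rot7_17r) (AllP.cons (Just.rot hT hi hR rot7_18 rot7_18r) (AllP.cons (Just.rot hT hi hR rot7_19 rot7_19r) (AllP.cons (Just.rot hT hi hR rot7_20 rot7_20r) (AllP.cons (Just.rot hT hi hR rot7_21 rot7_21r) (AllP.cons (Just.rot hT hi hR rot7_22 rot7_22r) (AllP.cons (Just.rot hT hi hR rot7_23 rot7_23r) (AllP.cons (Just.rot hT hi hR rot7_24 rot7_24r) (AllP.cons (Just.rot hT hi hR rot7_25 rot7_25r) (AllP.cons (Just.rot hT hi hR rot7_26 rot7_26r) (AllP.cons (Just.rot hT hi hR rot7_27 rot7_27r) (AllP.cons (Just.rot hT hi hR rot7_28 rot7_28r) (AllP.cons (Just.rot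 hT hi hR rot7_29 rot7_29r) (AllP.cons (Just.rot hT hi hR rot7_30 rot7_30r) (AllP.cons (Just.rot hT hi hR rot7_31 rot7_31r) (AllP.cons (Just.rot hT hi hR rot7_32 rot7_32r) (AllP.cons (Just.rot hT hi hR rot7_33 rot7_33r) (AllP.cons (Just.rot hT hi hR rot7_34 rot7_34r) (AllP.cons (Just.rot hT hi hR rot7_35 rot7_35r) (AllP.cons (Just.epi hT hi ep0a ep0b (seq_mem hi hR rfl hivk hrt H hb hdefs hst ep0c) ep0d) (AllP.nil)))))))))))))))))))))))))))))))))))))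
theorem let8 : LetOk H (letV a EX) T L 8 :=
  LetOk.of hT tl8 cov8 (AllP.cons (Just.rot hT hi hR rot8_1 rot8_1r) (AllP.cons (Just.rot hT hi hR rot8_2 rot8_2r) (AllP.cons (Just.rot hT hi hR rot8_3 rot8_3r) (AllP.cons (Just.rot hT hi hR rot8_4 rot8_4r) (AllP.cons (Just.rot hT hi hR rot8_5 rot8_5r) (AllP.cons (Just.rot hT hi hR rot8_6 rot8_6r) (AllP.cons (Just.rot hT hi hR rot8_7 rot8_7r) (AllP.cons (Just.rot hT hi hR rot8_8 rot8_8r) (AllP.cons (Just.rot hT hi hR rot8_9 rot8_9r) (AllP.cons (Just.rot hT hi hR rot8_10 rot8_10r) (AllP.cons (Just.rot hT hi hR rot8_11 rot8_11r) (AllP.cons (Just.rot hT hi hR rot8_12 rot8_12r) (AllP.cons (Just.rot hT hi hR rot8_13 rot8_13r) (AllP.cons (Just.rot hT hi hR rot8_14 rot8_14r) (AllP.cons (Just.rot hT hi hR rot8_15 rot8_15r) (AllP.nil))))))))))))))))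
theorem let9 : LetOk H (letV a EX) T L 9 :=
  LetOk.of' hT tl9 cov9 (AllP.cons (Just.rot hT hi hR rot9_1 rot9_1r) (AllP.cons (Just.rot hT hi hR rot9_2 rot9_2r) (AllP.cons (Just.rot hT hi hR rot9_3 rot9_3r) (AllP.cons (Just.rot hT hi hR rot9_4 rot9_4r) (AllP.cons (Just.rot hT hi hR rot9_5 rot9_5r) (AllP.cons (Just.rot hT hi hR rot9_6 rot9_6r) (AllP.cons (Just.rot hT hi hR rot9_7 rot9_7r) (AllP.cons (Just.rot hT hi hR rot9_8 rot9_8r) (AllP.cons (Just.rot hT hi hR rot9_9 rot9_9r) (AllP.cons (Just.rot hT hi hR rot9_10 rot9_10r) (AllP.cons (Just.rot hT hi hR rot9_11 rot9_11r) (AllP.cons (Just.rot hT hi hR rot9_12 rot9_12r) (AllP.cons (Just.rot hT hi hR rot9_13 rot9_13r) (AllP.cons (Just.rot hT hi hR rot9_14 rot9_14r) (AllP.cons (Just.rot hT hi hR rot9_15 rot9_15r) (AllP.cons (Just.rot hT hi hR rot9_16 rot9_16r) (AllP.cons (Just.rot hT hi hR rot9_17 rot9_17r) (AllP.cons (Just.rot hT hi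 hR rot9_18 rot9_18r) (AllP.nil)))))))))))))))))))
theorem let10 : LetOk H (letV a EX) T L 10 :=
  LetOk.of' hT tl10 cov10 (AllP.cons (Just.rot hT hi hR rot10_1 rot10_1r) (AllP.cons (Just.rot hT hi hR rot10_2 rot10_2r) (AllP.cons (Just.rot hT hi hR rot10_3 rot10_3r) (AllP.cons (Just.rot hT hi hR rot10_4 rot10_4r) (AllP.cons (Just.rot hT hi hR rot10_5 rot10_5r) (AllP.cons (Just.rot hT hi hR rot10_6 rot10_6r) (AllP.cons (Just.rot hT hi hR rot10_7 rot10_7r) (AllP.cons (Just.rot hT hi hR rot10_8 rot10_8r) (AllP.cons (Just.rot hT hi hR rot10_9 rot10_9r) (AllP.cons (Just.rot hT hi hR rot10_10 rot10_10r) (AllP.cons (Just.rot hT hi hR rot10_11 rot10_11r) (AllP.cons (Just.rot hT hi hR rot10_12 rot10_12r) (AllP.cons (Just.rot hT hi hR rot10_13 rot10_13r) (AllP.cons (Just.rot hT hi hR rot10_14 rot10_14r) (AllP.cons (Just.rot hT hi hR rot10_15 rot10_15r) (AllP.cons (Just.rot hT hi hR rot10_16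 rot10_16r) (AllP.cons (Just.rot hT hi hR rot10_17 rot10_17r) (AllP.cons (Just.rot hT hi hR rot10_18 rot10_18r) (AllP.nil)))))))))))))))))))
theorem let11 : LetOk H (letV a EX) T L 11 :=
  LetOk.of' hT tl11 cov11 (AllP.cons (Just.rot hT hi hR rot11_1 rot11_1r) (AllP.cons (Just.rot hT hi hR rot11_2 rot11_2r) (AllP.cons (Just.rot hT hi hR rot11_3 rot11_3r) (AllP.cons (Just.rot hT hi hR rot11_4 rot11_4r) (AllP.cons (Just.rot hT hi hR rot11_5 rot11_5r) (AllP.cons (Just.rot hT hi hR rot11_6 rot11_6r) (AllP.cons (Just.rot hT hi hR rot11_7 rot11_7r) (AllP.cons (Just.rot hT hi hR rot11_8 rot11_8r) (AllP.cons (Just.rot hT hi hR rot11_9 rot11_9r) (AllP.cons (Just.rot hT hi hR rot11_10 rot11_10r) (AllP.cons (Just.rot hT hi hR rot11_11 rot11_11r) (AllP.cons (Just.rot hT hi hR rot11_12 rot11_12r) (AllP.cons (Just.rot hT hi hR rot11_13 rot11_13r) (AllP.cons (Just.rot hT hi hR rot11_14 rot11_14r)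 (AllP.cons (Just.rot hT hi hR rot11_15 rot11_15r) (AllP.cons (Just.rot hT hi hR rot11_16 rot11_16r) (AllP.cons (Just.rot hT hi hR rot11_17 rot11_17r) (AllP.cons (Just.rot hT hi hR rot11_18 rot11_18r) (AllP.cons (Just.rot hT hi hR rot11_19 rot11_19r) (AllP.cons (Just.rot hT hi hR rot11_20 rot11_20r) (AllP.cons (Just.rot hT hi hR rot11_21 rot11_21r) (AllP.cons (Just.rot hT hi hR rot11_22 rot11_22r) (AllP.cons (Just.rot hT hi hR rot11_23 rot11_23r) (AllP.nil))))))))))))))))))))))))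
theorem let12 : LetOk H (letV a EX) T L 12 :=
  LetOk.of' hT tl12 cov12 (AllP.cons (Just.rot hT hi hR rot12_1 rot12_1r) (AllP.cons (Just.rot hT hi hR rot12_2 rot12_2r) (AllP.cons (Just.rot hT hi hR rot12_3 rot12_3r) (AllP.cons (Just.rot hT hi hR rot12_4 rot12_4r) (AllP.cons (Just.rot hT hi hR rot12_5 rot12_5r) (AllP.cons (Just.rot hT hi hR rot12_6 rot12_6r) (AllP.cons (Just.rot hT hi hR rot12_7 rot12_7r) (AllP.cons (Just.rot hT hi hR rot12_8 rot12_8r) (AllP.cons (Just.rot hT hi hR rot12_9 rot12_9r) (AllP.cons (Just.rot hT hi hR rot12_10 rot12_10r) (AllP.cons (Just.rot hT hi hR rot12_11 rot12_11r) (AllP.cons (Just.rot hT hi hR rot12_12 rot12_12r) (AllP.cons (Just.rot hT hi hR rot12_13 rot12_13r) (AllP.cons (Just.rot hT hi hR rot12_14 rot12_14r) (AllP.cons (Just.rot hT hi hR rot12_15 rot12_15r) (AllP.cons (Just.rot hT hi hR rot12_16 rot12_16r) (AllP.cons (Just.rot hT hi hR rot12_17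 rot12_17r) (AllP.cons (Just.rot hT hi hR rot12_18 rot12_18r) (AllP.cons (Just.rot hT hi hR rot12_19 rot12_19r) (AllP.cons (Just.rot hT hi hR rot12_20 rot12_20r) (AllP.cons (Just.rot hT hi hR rot12_21 rot12_21r) (AllP.cons (Just.rot hT hi hR rot12_22 rot12_22r) (AllP.cons (Just.rot hT hi hR rot12_23 rot12_23r) (AllP.nil))))))))))))))))))))))))
theorem let13 : LetOk H (letV a EX) T L 13 :=
  LetOk.of' hT tl13 cov13 (AllP.cons (Just.rot hT hi hR rot13_1 rot13_1r) (AllP.cons (Just.rot hT hi hR rot13_2 rot13_2r) (AllP.cons (Just.rot hT hi hR rot13_3 rot13_3r) (AllP.cons (Just.rot hT hi hR rot13_4 rot13_4r) (AllP.cons (Just.rot hT hi hR rot13_5 rot13_5r) (AllP.cons (Just.rot hT hi hR rot13_6 rot13_6r) (AllP.cons (Just.rot hT hi hR rot13_7 rot13_7r) (AllP.cons (Just.rot hT hi hR rot13_8 rot13_8r) (AllP.cons (Just.rot hT hi hR rot13_9 rot13_9r) (AllP.cons (Just.rot hT hi hR rot13_10 rot13_10r)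 (AllP.cons (Just.rot hT hi hR rot13_11 rot13_11r) (AllP.cons (Just.rot hT hi hR rot13_12 rot13_12r) (AllP.cons (Just.rot hT hi hR rot13_13 rot13_13r) (AllP.cons (Just.rot hT hi hR rot13_14 rot13_14r) (AllP.cons (Just.rot hT hi hR rot13_15 rot13_15r) (AllP.cons (Just.rot hT hi hR rot13_16 rot13_16r) (AllP.cons (Just.rot hT hi hR rot13_17 rot13_17r) (AllP.cons (Just.rot hT hi hR rot13_18 rot13_18r) (AllP.cons (Just.rot hT hi hR rot13_19 rot13_19r) (AllP.cons (Just.rot hT hi hR rot13_20 rot13_20r) (AllP.cons (Just.rot hT hi hR rot13_21 rot13_21r) (AllP.cons (Just.rot hT hi hR rot13_22 rot13_22r) (AllP.cons (Just.rot hT hi hR rot13_23 rot13_23r) (AllP.cons (Just.rot hT hi hR rot13_24 rot13_24r) (AllP.cons (Just.rot hT hi hR rot13_25 rot13_25r) (AllP.cons (Just.rot hT hi hR rot13_26 rot13_26r) (AllP.nil)))))))))))))))))))))))))))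
theorem let14 : LetOk H (letV a EX) T L 14 :=
  LetOk.of' hT tl14 cov14 (AllP.cons (Just.rot hT hi hR rot14_1 rot14_1r) (AllP.cons (Just.rot hT hi hR rot14_2 rot14_2r) (AllP.cons (Just.rot hT hi hR rot14_3 rot14_3r) (AllP.cons (Just.rot hT hi hR rot14_4 rot14_4r) (AllP.cons (Just.rot hT hi hR rot14_5 rot14_5r) (AllP.cons (Just.rot hT hi hR rot14_6 rot14_6r) (AllP.cons (Just.rot hT hi hR rot14_7 rot14_7r) (AllP.cons (Just.rot hT hi hR rot14_8 rot14_8r) (AllP.cons (Just.rot hT hi hR rot14_9 rot14_9r) (AllP.cons (Just.rot hT hi hR rot14_10 rot14_10r) (AllP.cons (Just.rot hT hi hR rot14_11 rot14_11r) (AllP.cons (Just.rot hT hi hR rot14_12 rot14_12r) (AllP.cons (Just.rot hT hi hR rot14_13 rot14_13r) (AllP.cons (Just.rot hT hi hR rot14_14 rot14_14r) (AllP.cons (Just.rot hT hi hR rot14_15 rot14_15r) (AllP.cons (Just.rot hT hi hR rot14_16 rot14_16r) (AllP.cons (Just.rot hT hi hR rot14_17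 rot14_17r) (AllP.cons (Just.rot hT hi hR rot14_18 rot14_18r) (AllP.cons (Just.rot hT hi hR rot14_19 rot14_19r) (AllP.cons (Just.rot hT hi hR rot14_20 rot14_20r) (AllP.cons (Just.rot hT hi hR rot14_21 rot14_21r) (AllP.cons (Just.rot hT hi hR rot14_22 rot14_22r) (AllP.cons (Just.rot hT hi hR rot14_23 rot14_23r) (AllP.cons (Just.rot hT hi hR rot14_24 rot14_24r) (AllP.cons (Just.rot hT hi hR rot14_25 rot14_25r) (AllP.cons (Just.rot hT hi hR rot14_26 rot14_26r) (AllP.nil)))))))))))))))))))))))))))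
theorem let15 : LetOk H (letV a EX) T L 15 :=
  LetOk.of' hT tl15 cov15 (AllP.cons (Just.rot hT hi hR rot15_1 rot15_1r) (AllP.cons (Just.rot hT hi hR rot15_2 rot15_2r) (AllP.cons (Just.rot hT hi hR rot15_3 rot15_3r) (AllP.cons (Just.rot hT hi hR rot15_4 rot15_4r) (AllP.cons (Just.rot hT hi hR rot15_5 rot15_5r) (AllP.cons (Just.rot hT hi hR rot15_6 rot15_6r) (AllP.cons (Just.rot hT hi hR rot15_7 rot15_7r) (AllP.cons (Just.rot hT hi hR rot15_8 rot15_8r) (AllP.cons (Just.rot hT hi hR rot15_9 rot15_9r) (AllP.cons (Just.rot hT hi hR rot15_10 rot15_10r) (AllP.cons (Just.rot hT hi hR rot15_11 rot15_11r) (AllP.cons (Just.rot hT hi hR rot15_12 rot15_12r) (AllP.cons (Just.rot hT hi hR rot15_13 rot15_13r) (AllP.cons (Just.rot hT hi hR rot15_14 rot15_14r) (AllP.cons (Just.rot hT hi hR rot15_15 rot15_15r) (AllP.cons (Just.rot hT hi hR rot15_16 rot15_16r) (AllP.cons (Just.rot hT hi hR rot15_17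 rot15_17r) (AllP.cons (Just.rot hT hi hR rot15_18 rot15_18r) (AllP.cons (Just.rot hT hi hR rot15_19 rot15_19r) (AllP.cons (Just.rot hT hi hR rot15_20 rot15_20r) (AllP.cons (Just.rot hT hi hR rot15_21 rot15_21r) (AllP.cons (Just.rot hT hi hR rot15_22 rot15_22r) (AllP.cons (Just.rot hT hi hR rot15_23 rot15_23r) (AllP.cons (Just.rot hT hi hR rot15_24 rot15_24r) (AllP.cons (Just.rot hT hi hR rot15_25 rot15_25r) (AllP.cons (Just.rot hT hi hR rot15_26 rot15_26r) (AllP.cons (Just.rot hT hi hR rot15_27 rot15_27r) (AllP.cons (Just.rot hT hi hR rot15_28 rot15_28r) (AllP.cons (Just.rot hT hi hR rot15_29 rot15_29r) (AllP.nil))))))))))))))))))))))))))))))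
theorem let16 : LetOk H (letV a EX) T L 16 :=
  LetOk.of' hT tl16 cov16 (AllP.cons (Just.rot hT hi hR rot16_1 rot16_1r) (AllP.cons (Just.rot hT hi hR rot16_2 rot16_2r) (AllP.cons (Just.rot hT hi hR rot16_3 rot16_3r) (AllP.cons (Just.rot hT hi hR rot16_4 rot16_4r) (AllP.cons (Just.rot hT hi hR rot16_5 rot16_5r) (AllP.cons (Just.rot hT hi hR rot16_6 rot16_6r) (AllP.cons (Just.rot hT hi hR rot16_7 rot16_7r) (AllP.cons (Just.rot hT hi hR rot16_8 rot16_8r) (AllP.cons (Just.rot hT hi hR rot16_9 rot16_9r) (AllP.cons (Just.rot hT hi hR rot16_10 rot16_10r) (AllP.cons (Just.rot hT hi hR rot16_11 rot16_11r) (AllP.cons (Just.rot hT hi hR rot16_12 rot16_12r) (AllP.cons (Just.rot hT hi hR rot16_13 rot16_13r) (AllP.cons (Just.rot hT hi hR rot16_14 rot16_14r) (AllP.cons (Just.rot hT hi hR rot16_15 rot16_15r) (AllP.cons (Just.rot hT hi hR rot16_16 rot16_16r) (AllP.cons (Just.rot hT hi hR rot16_17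 rot16_17r) (AllP.cons (Just.rot hT hi hR rot16_18 rot16_18r) (AllP.cons (Just.rot hT hi hR rot16_19 rot16_19r) (AllP.cons (Just.rot hT hi hR rot16_20 rot16_20r) (AllP.cons (Just.rot hT hi hR rot16_21 rot16_21r) (AllP.cons (Just.rot hT hi hR rot16_22 rot16_22r) (AllP.cons (Just.rot hT hi hR rot16_23 rot16_23r) (AllP.cons (Just.rot hT hi hR rot16_24 rot16_24r) (AllP.cons (Just.rot hT hi hR rot16_25 rot16_25r) (AllP.cons (Just.rot hT hi hR rot16_26 rot16_26r) (AllP.cons (Just.rot hT hi hR rot16_27 rot16_27r) (AllP.cons (Just.rot hT hi hR rot16_28 rot16_28r) (AllP.cons (Just.rot hT hi hR rot16_29 rot16_29r) (AllP.nil))))))))))))))))))))))))))))))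
theorem let17 : LetOk H (letV a EX) T L 17 :=
  LetOk.of' hT tl17 cov17 (AllP.cons (Just.rot hT hi hR rot17_1 rot17_1r) (AllP.cons (Just.rot hT hi hR rot17_2 rot17_2r) (AllP.cons (Just.rot hT hi hR rot17_3 rot17_3r) (AllP.cons (Just.rot hT hi hR rot17_4 rot17_4r) (AllP.cons (Just.rot hT hi hR rot17_5 rot17_5r) (AllP.cons (Just.rot hT hi hR rot17_6 rot17_6r) (AllP.cons (Just.rot hT hi hR rot17_7 rot17_7r) (AllP.cons (Just.rot hT hi hR rot17_8 rot17_8r) (AllP.cons (Just.rot hT hi hR rot17_9 rot17_9r) (AllP.cons (Just.rot hT hi hR rot17_10 rot17_10r) (AllP.cons (Just.rot hT hi hR rot17_11 rot17_11r) (AllP.cons (Just.rot hT hi hR rot17_12 rot17_12r) (AllP.cons (Just.rot hT hi hR rot17_13 rot17_13r) (AllP.cons (Just.rot hT hi hR rot17_14 rot17_14r) (AllP.cons (Just.rot hT hi hR rot17_15 rot17_15r) (AllP.cons (Just.rot hT hi hR rot17_16 rot17_16r) (AllP.cons (Just.rot hT hi hR rot17_17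 rot17_17r) (AllP.cons (Just.rot hT hi hR rot17_18 rot17_18r) (AllP.cons (Just.rot hT hi hR rot17_19 rot17_19r) (AllP.cons (Just.rot hT hi hR rot17_20 rot17_20r) (AllP.cons (Just.rot hT hi hR rot17_21 rot17_21r) (AllP.cons (Just.rot hT hi hR rot17_22 rot17_22r) (AllP.nil)))))))))))))))))))))))
theorem let18 : LetOk H (letV a EX) T L 18 :=
  LetOk.of' hT tl18 cov18 (AllP.cons (Just.rot hT hi hR rot18_1 rot18_1r) (AllP.cons (Just.rot hT hi hR rot18_2 rot18_2r) (AllP.cons (Just.rot hT hi hR rot18_3 rot18_3r) (AllP.cons (Just.rot hT hi hR rot18_4 rot18_4r) (AllP.cons (Just.rot hT hi hR rot18_5 rot18_5r) (AllP.cons (Just.rot hT hi hR rot18_6 rot18_6r) (AllP.cons (Just.rot hT hi hR rot18_7 rot18_7r) (AllP.cons (Just.rot hT hi hR rot18_8 rot18_8r) (AllP.cons (Just.rot hT hi hR rot18_9 rot18_9r) (AllP.cons (Just.rot hT hi hR rot18_10 rot18_10r) (AllP.cons (Just.rot hT hi hR rot18_11 rot18_11r)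 (AllP.cons (Just.rot hT hi hR rot18_12 rot18_12r) (AllP.cons (Just.rot hT hi hR rot18_13 rot18_13r) (AllP.cons (Just.rot hT hi hR rot18_14 rot18_14r) (AllP.cons (Just.rot hT hi hR rot18_15 rot18_15r) (AllP.cons (Just.rot hT hi hR rot18_16 rot18_16r) (AllP.cons (Just.rot hT hi hR rot18_17 rot18_17r) (AllP.cons (Just.rot hT hi hR rot18_18 rot18_18r) (AllP.cons (Just.rot hT hi hR rot18_19 rot18_19r) (AllP.cons (Just.rot hT hi hR rot18_20 rot18_20r) (AllP.cons (Just.rot hT hi hR rot18_21 rot18_21r) (AllP.cons (Just.rot hT hi hR rot18_22 rot18_22r) (AllP.nil)))))))))))))))))))))))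
theorem hlet : AllP (LetOk H (letV a EX) T L) L :=
  show AllP (LetOk H (letV a EX) T L) [1, 2, 3, 4, 5, 6, 7, 8, 9, 10, 11, 12, 13, 14, 15, 16, 17, 18] from AllP.cons (let1 hi hR hb) (AllP.cons (let2 hi hR hb) (AllP.cons (let3 hi hR hb) (AllP.cons (let4 hi hR hb) (AllP.cons (let5 hi hR hb) (AllP.cons (let6 hi hR hb) (AllP.cons (let7 hi hR hb) (AllP.cons (let8 hi hR hb) (AllP.cons (let9 hi hR hb) (AllP.cons (let10 hi hR hb) (AllP.cons (let11 hi hR hb) (AllP.cons (let12 hi hR hb) (AllP.cons (let13 hi hR hb) (AllP.cons (let14 hi hR hb) (AllP.cons (let15 hi hR hb) (AllP.cons (let16 hi hR hb) (AllP.cons (let17 hi hR hb) (AllP.cons (let18 hi hR hb) (AllP.nil))))))))))))))))))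
end

theorem cert : Cert 4 0 RL BW fP 3906 :=
  Cert.of hT ⟨hsq, hrel⟩ hPZ (fun _ _ _ hi hR _ hb => hlet hi hR hb) hcov hg (by decide +kernel)

end Cfsg.Agent.Spor.Ly3906
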