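import Cfsg.Agent.Spor.Rank
import Cfsg.Agent.Spor.Ly3906.S.Main
import Cfsg.Agent.Spor.Ly3906.L.Main
import Cfsg.Agent.Spor.Ly3906N1.Main
import Cfsg.Agent.Spor.DC
import Cfsg.Agent.Spor.Ly3125.Main
import Cfsg.Agent.Spor.Ly480.Main
import Cfsg.Agent.Spor.Ly3906A1.Main

set_option autoImplicit false
set_option maxRecDepth 100000

namespace Cfsg.Agent.Spor.Ly3906

theorem bound : Bound 4 0 RL 5859000000 := show Bound 4 0 RL (3906 * (3125 * 480)) from (Ly3906.cert.bound' (Ly3125.cert.bound Ly480.cert.bound_nil (H := [([], 0, true), ([], 1, true), ([], 2, true), ([], 3, true), ([], 4, true)]) (by decide +kernel)) (H := [([], 0, true), ([], 1, true), ([], 2, true), ([], 3, true), ([], 4, true), ([], 5, true), ([], 6, true), ([], 7, true), ([], 8, true), ([], 9, true), ([], 10, true), ([], 11, true), ([], 12, true), ([], 13, true), ([], 14, true), ([], 15, true), ([], 16, true), ([], 17, true), ([], 18, true), ([], 19, true), ([], 20, true), ([], 21, true), ([], 22, true), ([], 23, true), ([], 24, true), ([], 25, true), ([], 26, true), ([], 27, true), ([], 28, true), ([], 29,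 true), ([], 30, true), ([], 31, true), ([], 32, true), ([], 33, true), ([], 34, true), ([], 35, true), ([], 36, true), ([], 37, true)]) (H' := [([], 0, true), ([], 1, true), ([], 2, true), ([], 3, true), ([], 4, true), ([], 5, true), ([], 6, true), ([], 7, true), ([], 8, true), ([], 9, true), ([], 10, true), ([], 11, true), ([], 12, true), ([], 13, true), ([], 14, true), ([], 15, true), ([], 16, true), ([], 17, true), ([], 18, true), ([], 19, true), ([], 20, true), ([], 21, true), ([], 22, true)]) (by decide +kernel) (by decide +kernel))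

/-- the permutation group -/
noncomputable abbrev P : Subgroup (Equiv.Perm ℕ) := gsub 4 fP
noncomputable abbrev p : ℕ → P := lift P fP

theorem lbP : 5859000000 ∣ Nat.card P := by
  rw [P, L.eG]; exact L.lb

theorem cardP : Nat.card P = 5859000000 := Nat.dvd_antisymm (bound _ _ cert.pres) lbP

instance instFiniteP : Finite P := Nat.finite_of_card_ne_zero (by rw [cardP]; norm_num)

theorem coatomP : IsCoatom (wsub 4 p BW) :=
  cert.self.coatom (by norm_num) ((map_wsub_lift fP BW).trans S.eH)
    ((Subgroup.range_subtype _).trans S.eG) S.hX S.hXc S.hY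

theorem coreP : (wsub 4 p BW).normalCore = ⊥ :=
  cert.self.core_eq_bot P.subtype_injective ((Subgroup.range_subtype P).symm ▸ S.hfix)

theorem presP : Pres 4 0 RL p := cert.pres.lift

theorem presN : Pres 4 0 (RL ++ L.XN) p := (cert.pres.append L.hXN).lift

def AW : List (List ℕ) := [[5, 1, 5, 0, 4, 1, 4, 0]]

theorem normA : ∀ x ∈ wsub 4 p BW, ∀ a ∈ wsub 4 p AW, x * a * x⁻¹ ∈ wsub 4 p AW :=
  norm_of_list presP.ivOk (I := [[[1, 1]], [[0]], [[0]]])
    (consAll_sound presP.ivOk presN.rel (H := [([], 38, true), ([3], 22, false), ([1, 5, 0, 5, 1, 4, 0], 7, true)]) (by decide +kernel))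

theorem commA : ∀ x ∈ wsub 4 p AW, ∀ a ∈ wsub 4 p AW, x * a = a * x :=
  comm_of_list presP.ivOk (consAll_sound presP.ivOk presN.rel (H := [([], 39, false)]) (by decide +kernel))

theorem casesP (M : Subgroup P) (hM : M.Normal) : M = ⊥ ∨ commutator P ≤ M :=
  iwasawa coatomP coreP normA commA
    (Ly3906N1.cert.bound_nil.normalClosure presP (gsub_lift 4 fP) _ (H := [([], 0, true), ([], 1, true), ([], 2, true), ([], 3, true), ([], 4, true), ([], 5, true), ([], 6, true), ([], 7, true), ([], 8, true), ([], 9, true), ([], 10, true), ([], 11, true), ([], 12, true), ([], 13, true), ([], 14, true), ([], 15, true), ([], 16, true), ([], 17, true), ([], 18, true), ([], 19, true), ([], 20, true), ([], 21, true), ([], 22, true), ([], 23, true), ([], 24, true), ([], 25, true), ([], 26, true), ([], 27, true), ([], 28, true), ([], 29, true), ([], 30, true), ([], 31, true), ([], 32, true), ([], 33, true), ([], 34, true), ([], 35, true), ([], 36, true), ([], 37, true), ([], 38, true)]) (by decide +kernel)) M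

theorem perfectP : commutator P = ⊤ :=
  Ly3906A1.cert.bound_nil.perfect presP (gsub_lift 4 fP) [[0], [2], [4], [6]] (H := [([], 0, true), ([], 1, true), ([], 2, true), ([], 3, true), ([], 4, true), ([], 5, true), ([], 6, true), ([], 7, true), ([], 8, true), ([], 9, true), ([], 10, true), ([], 11, true), ([], 12, true), ([], 13, true), ([], 14, true), ([], 15, true), ([], 16, true), ([], 17, true), ([], 18, true), ([], 19, true), ([], 20, true), ([], 21, true), ([], 22, true), ([], 23, true), ([], 24, true), ([], 25, true), ([], 26, true), ([], 27, true), ([], 28, true), ([], 29, true), ([], 30, true), ([], 31, true), ([], 32, true), ([], 33, true), ([], 34, true), ([], 35, true), ([], 36, true), ([], 37, true), ([], 39, true), ([], 40, true), ([], 41, true), ([], 44, true), ([], 45, true), ([], 49, true)]) (by decide +kernel)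

theorem simpleP : IsSimpleGroup P :=
  iwasawa_simple coatomP coreP normA commA
    (Ly3906N1.cert.bound_nil.normalClosure presP (gsub_lift 4 fP) _ (H := [([], 0, true), ([], 1, true), ([], 2, true), ([], 3, true), ([], 4, true), ([], 5, true), ([], 6, true), ([], 7, true), ([], 8, true), ([], 9, true), ([], 10, true), ([], 11, true), ([], 12, true), ([], 13, true), ([], 14, true), ([], 15, true), ([], 16, true), ([], 17, true), ([], 18, true), ([], 19, true), ([], 20, true), ([], 21, true), ([], 22, true), ([], 23, true), ([], 24, true), ([], 25, true), ([], 26, true), ([], 27, true), ([], 28, true), ([], 29, true), ([], 30, true), ([], 31, true), ([], 32, true), ([], 33, true), ([], 34, true), ([], 35, true), ([], 36, true), ([], 37, true), ([], 38, true)]) (by decide +kernel)) perfectP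

end Cfsg.Agent.Spor.Ly3906
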